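import Cfsg.Agent.SpecU3.Upper
import Cfsg.Agent.SemiUnitary.Classes
import Cfsg.Agent.Spectrum.Basic

/-!
The element orders of `PSU_3(q)`, `q` odd.
-/

namespace Cfsg.Agent.SpecU3

open Matrix Polynomial

variable {F : Type*} [Field F] [Fintype F] {p q : ℕ} [hp : Fact p.Prime] [CharP F p]

local notation "K" => AlgebraicClosure F

theorem mem_center_iff_scalar (hF : Fintype.card F = q ^ 2) (g : Cfsg.SU 3 F q) :
    g ∈ Subgroup.center (Cfsg.SU 3 F q) ↔ IsScalarMat g.1.1 := by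
  constructor
  · intro hg
    have h2 : Classical.U.suEquiv 3 F q g ∈ Subgroup.center (Classical.U.SUG 3 F q) := by
      rw [Subgroup.mem_center_iff]
      intro x
      obtain ⟨y, rfl⟩ := (Classical.U.suEquiv 3 F q).surjective x
      rw [← map_mul, ← map_mul, Subgroup.mem_center_iff.1 hg y]
    obtain ⟨c, hc⟩ := Classical.U.center_SUG_scalar (Classical.U.sqField_of_fintype hF) (by norm_num) _ h2
    refine ⟨c, Matrix.ext_of_mulVec_single fun i => ?_⟩
    rw [Matrix.smul_mulVec, Matrix.one_mulVec]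
    exact hc (Pi.single i 1)
  · rintro ⟨e, he⟩
    rw [Subgroup.mem_center_iff]
    intro x
    refine Subtype.ext (Subtype.ext ?_)
    change x.1.1 * g.1.1 = g.1.1 * x.1.1
    rw [he, Matrix.smul_mul, Matrix.mul_smul, Matrix.one_mul, Matrix.mul_one]

theorem orderOf_mk_dvd (hF : Fintype.card F = q ^ 2) (g : Cfsg.SU 3 F q) (k : ℕ) :
    orderOf (QuotientGroup.mk g : Cfsg.PSU 3 F q) ∣ k ↔ IsScalarMat (g.1.1 ^ k) := by
  rw [orderOf_dvd_iff_pow_eq_one, ← QuotientGroup.mk_pow, QuotientGroup.eq_one_iff,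
    mem_center_iff_scalar hF]
  rfl

/-- the eigenvalues of a scalar power -/
theorem pow_root_eq {A : Matrix (Fin 3) (Fin 3) F} {i : ℕ} {e : F} (h : A ^ i = e • 1) {l : K}
    (hl : (A.map (algebraMap F K)).charpoly.IsRoot l) : l ^ i = algebraMap F K e := by
  rw [Polynomial.IsRoot, Matrix.eval_charpoly] at hl
  obtain ⟨v, hv, hv0⟩ := Matrix.exists_mulVec_eq_zero_iff.2 hl
  rw [Matrix.sub_mulVec, sub_eq_zero, Matrix.scalar_apply] at hv0
  have hev : (A.map (algebraMap F K)) *ᵥ v = l • v := by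
    rw [← hv0]
    ext j
    simp [Matrix.mulVec_diagonal]
  have hpow : ∀ j : ℕ, (A.map (algebraMap F K)) ^ j *ᵥ v = l ^ j • v := by
    intro j
    induction j with
    | zero => simp
    | succ j ih =>
      rw [pow_succ, ← Matrix.mulVec_mulVec, hev, Matrix.mulVec_smul, ih, smul_smul, pow_succ']
  have h1 := hpow i
  rw [← Matrix.map_pow, h, Matrix.map_smul' _ _ _ (fun a b => map_mul _ a b),
    Matrix.map_one _ (map_zero _) (map_one _), Matrix.smul_mulVec, Matrix.one_mulVec] at h1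
  exact (smul_left_injective K hv h1).symm

theorem exists_algebraMap_eq (hF : Fintype.card F = q ^ 2) {x : K} (hx : x ^ (q * q) = x) :
    ∃ a : F, algebraMap F K a = x := by
  classical
  have hcard : 1 < q ^ 2 := hF ▸ Fintype.one_lt_card
  have hne : (X ^ (q ^ 2) - X : K[X]) ≠ 0 := FiniteField.X_pow_card_sub_X_ne_zero K hcard
  by_contra! h
  have hsub : (insert x (Finset.univ.image (algebraMap F K))).val ⊆ (X ^ (q ^ 2) - X : K[X]).roots := by
    intro y hy
    rw [Finset.mem_val, Finset.mem_insert, Finset.mem_image] at hy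
    rw [mem_roots hne]
    rcases hy with rfl | ⟨a, -, rfl⟩
    · simp [sq, hx]
    · simp only [IsRoot, eval_sub, eval_pow, eval_X, ← map_pow, ← hF, FiniteField.pow_card, sub_self]
  have h1 := card_le_degree_of_subset_roots hsub
  rw [Finset.card_insert_of_notMem (by simpa using h),
    Finset.card_image_of_injective _ (algebraMap F K).injective, Finset.card_univ,
    FiniteField.X_pow_card_sub_X_natDegree_eq K hcard, hF] at h1
  omega

/-- a unitary element with prescribed eigenvalues -/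
theorem exists_elem (p : ℕ) [hp : Fact p.Prime] [CharP F p] (hF : Fintype.card F = q ^ 2)
    {l1 l2 l3 : K} (hprod : l1 * l2 * l3 = 1)
    (hperm : ({hinvq q l1, hinvq q l2, hinvq q l3} : Multiset K) = {l1, l2, l3}) :
    ∃ g : Cfsg.SU 3 F q, ∀ x, (x = l1 ∨ x = l2 ∨ x = l3) →
      (g.1.1.map (algebraMap F K)).charpoly.IsRoot x := by
  classical
  obtain ⟨f, hf, hqf⟩ := exists_char_pow (p := p) hF
  haveI : CharP K p := charP_of_injective_algebraMap (algebraMap F K).injective p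
  letI : StarRing F := SemiUnitary.starPow hF
  have hstar : ∀ x : F, star x = x ^ q := fun _ => rfl
  have hne : ∀ x, (x = l1 ∨ x = l2 ∨ x = l3) → x ≠ 0 := by
    rintro x (rfl | rfl | rfl) rfl <;> simp at hprod
  set s := l1 + l2 + l3 with hs
  -- the coefficient
  let σ : K →+* K := iterateFrobenius K p f
  have hσ : ∀ x : K, σ x = x ^ q := fun x => by rw [hqf]; exact iterateFrobenius_def p f x
  have hsum := congrArg Multiset.sum hperm
  simp only [Multiset.insert_eq_cons, Multiset.sum_cons, Multiset.sum_singleton] at hsum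
  have hs2 : s ^ q = l1⁻¹ + l2⁻¹ + l3⁻¹ := by
    have hsum' : (l1 ^ q)⁻¹ + ((l2 ^ q)⁻¹ + (l3 ^ q)⁻¹) = l1 + (l2 + l3) := hsum
    have h2 := congrArg σ hsum'
    simp only [map_add, map_inv₀, ← hσ] at h2
    have h3 : ∀ x : K, σ (σ x) = x ^ (q * q) := fun x => by rw [hσ, hσ, pow_mul]
    have hmap := congrArg (Multiset.map (hinvq q)) hperm
    simp only [Multiset.insert_eq_cons, Multiset.map_cons, Multiset.map_singleton] at hmap
    have h4 := congrArg (fun M : Multiset K => (M.map fun x => x⁻¹).sum) hperm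
    simp only [Multiset.insert_eq_cons, Multiset.map_cons, Multiset.map_singleton, Multiset.sum_cons,
      Multiset.sum_singleton, hinvq, inv_inv] at h4
    rw [hs, ← hσ, map_add, map_add, hσ, hσ, hσ]
    linear_combination h4
  have hs3 : s ^ (q * q) = s := by
    rw [pow_mul, hs2, ← hσ, map_add, map_add, map_inv₀, map_inv₀, map_inv₀, hσ, hσ, hσ]
    simp only [hinvq] at hsum
    rw [hs]
    linear_combination hsum
  obtain ⟨a, ha⟩ := exists_algebraMap_eq hF hs3
  set P : F[X] := X ^ 3 - C a * X ^ 2 + C (star a) * X - 1 with hP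
  have hdeg : P.natDegree = 3 := by rw [hP]; compute_degree!
  have hmonic : P.Monic := by rw [hP]; monicity!
  have h0 : P.coeff 0 = -1 := by simp [hP]
  have hsd : SemiUnitary.SelfDual P := by
    have c1 : P.coeff 1 = star a := by simp [hP, coeff_one, coeff_X]
    have c2 : P.coeff 2 = -a := by simp [hP, coeff_one, coeff_X]
    have c3 : P.coeff 3 = 1 := by simp [hP, coeff_one, coeff_X]
    have : SemiUnitary.rev P = -P := by
      ext i
      rw [SemiUnitary.coeff_rev, hdeg, coeff_neg]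
      rcases (by omega : i = 0 ∨ i = 1 ∨ i = 2 ∨ i = 3 ∨ 3 < i) with rfl | rfl | rfl | rfl | hi
      · simp [Polynomial.revAt_le, h0, c3]
      · simp [Polynomial.revAt_le, c1, c2]
      · simp [Polynomial.revAt_le, c1, c2]
      · simp [Polynomial.revAt_le, h0, c3]
      · rw [Polynomial.revAt_eq_self_of_lt hi,
          Polynomial.coeff_eq_zero_of_natDegree_lt (by rw [hdeg]; exact hi), star_zero, neg_zero]
    rw [SemiUnitary.SelfDual, this]
    exact (Associated.refl P).neg_left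
  obtain ⟨M, hM1, hM2, -⟩ := SemiUnitary.exists_unitary_charpoly (SemiUnitary.exists_pow_ne hF)
    (by norm_num : 0 < 3) hmonic hdeg (by rw [h0]; exact neg_ne_zero.2 one_ne_zero) hsd
  have hdet : M.det = 1 := by
    rw [Matrix.det_eq_sign_charpoly_coeff, hM2, h0, Fintype.card_fin]; ring
  refine ⟨⟨⟨M, hdet⟩, (SemiUnitary.star_mul_self_iff hstar _).2 hM1⟩, fun x hx => ?_⟩
  change ((M.map (algebraMap F K)).charpoly).IsRoot x
  rw [Matrix.charpoly_map, hM2, Polynomial.IsRoot, hP]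
  simp only [Polynomial.map_sub, Polynomial.map_add, Polynomial.map_mul, Polynomial.map_pow, map_X,
    map_C, Polynomial.map_one, eval_sub, eval_add, eval_mul, eval_pow, eval_X, eval_C, eval_one]
  rw [hstar, map_pow, ha, hs2, hs]
  have h1 := hne l1 (Or.inl rfl)
  have h2 := hne l2 (Or.inr (Or.inl rfl))
  have h3 := hne l3 (Or.inr (Or.inr rfl))
  rcases hx with rfl | rfl | rfl
  · field_simp; linear_combination (-x * (l2 + l3)) * hprod
  · field_simp; linear_combination (-x * (l1 + l3)) * hprod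
  · field_simp; linear_combination (-x * (l1 + l2)) * hprod

theorem exists_primitive_root' (p : ℕ) [hp : Fact p.Prime] [CharP F p] {n : ℕ} (hn : n ≠ 0) (h : ¬ p ∣ n) : ∃ z : K, IsPrimitiveRoot z n := by
  haveI : CharP K p := charP_of_injective_algebraMap (algebraMap F K).injective p
  haveI : NeZero (n : K) := ⟨by rw [Ne, CharP.cast_eq_zero_iff K p]; exact h⟩
  exact HasEnoughRootsOfUnity.exists_primitiveRoot K n

theorem dvd_gcd_mul {n i : ℕ} (hd : Nat.gcd 3 (q + 1) ∣ n) (h3 : n ∣ 3 * i)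
    (h1 : n ∣ (q + 1) * i) : n / Nat.gcd 3 (q + 1) ∣ i := by
  have h : n ∣ Nat.gcd 3 (q + 1) * i := by rw [← Nat.gcd_mul_right]; exact Nat.dvd_gcd h3 h1
  exact (Nat.div_dvd_iff_dvd_mul hd (Nat.pos_of_dvd_of_pos (Nat.gcd_dvd_left _ _) (by norm_num))).2 h

/-- an element of order `p(q+1)/d` -/
theorem exists_mixed (p : ℕ) [hp : Fact p.Prime] [CharP F p] (hp2 : p ≠ 2)
    (hF : Fintype.card F = q ^ 2) :
    ∃ g : Cfsg.SU 3 F q, ∀ i, IsScalarMat (g.1.1 ^ i) → p * (q + 1) / Nat.gcd 3 (q + 1) ∣ i := by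
  classical
  obtain ⟨f, hf, hqf⟩ := exists_char_pow (p := p) hF
  have hpq : p ∣ q := hqf ▸ dvd_pow_self p hf.ne'
  have hq0 : q ≠ 0 := by rw [hqf]; exact pow_ne_zero f hp.out.ne_zero
  have hadd : ∀ a b : F, (a + b) ^ q = a ^ q + b ^ q := fun a b => by
    rw [hqf]; exact add_pow_char_pow a b p f
  have hodd : Odd q := by
    rw [hqf]; exact (hp.out.odd_of_ne_two hp2).pow
  have hneg : ∀ a : F, (-a) ^ q = -(a ^ q) := fun a => hodd.neg_pow a
  have hS := Classical.U.sqField_of_fintype hF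
  obtain ⟨e, he0, heq⟩ := hS.exists_skew
  obtain ⟨c, hcc⟩ := hS.exists_norm (c := (-1 : F)) (by rw [hneg, one_pow])
  have hpn : ¬ p ∣ q + 1 := fun h =>
    hp.out.one_lt.ne' (Nat.dvd_one.1 ((Nat.dvd_add_right hpq).1 h))
  obtain ⟨zK, hzK⟩ := exists_primitive_root' (F := F) p (n := q + 1) (by omega) hpn
  obtain ⟨z, hzz⟩ := exists_algebraMap_eq hF (x := zK) (by
    have h1 : zK ^ q = zK⁻¹ := eq_inv_of_mul_eq_one_left (by rw [← pow_succ, hzK.pow_eq_one])
    rw [pow_mul, h1, inv_pow, h1, inv_inv])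
  have hz : IsPrimitiveRoot z (q + 1) :=
    IsPrimitiveRoot.of_map_of_injective (f := algebraMap F K) (by rw [hzz]; exact hzK)
      (algebraMap F K).injective
  have hz0 : z ≠ 0 := hz.ne_zero (by omega)
  have hzq : z ^ q = z⁻¹ := eq_inv_of_mul_eq_one_left (by rw [← pow_succ, hz.pow_eq_one])
  have hc' : c ^ q * c = -1 := by rw [← pow_succ, hcc]
  have hcq : (c ^ q) ^ q = c := by rw [← pow_mul, ← sq, ← hF, FiniteField.pow_card]
  have he1 : (1 + e) ^ q = 1 - e := by rw [hadd, one_pow, heq, sub_eq_add_neg]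
  have he2 : (1 - e) ^ q = 1 + e := by
    rw [sub_eq_add_neg, hadd, one_pow, hneg, heq, neg_neg]
  set w := (z ^ 2)⁻¹ with hw
  have hwz : w * z ^ 2 = 1 := inv_mul_cancel₀ (pow_ne_zero 2 hz0)
  have hwq : w ^ q = z ^ 2 := by rw [hw, inv_pow, ← pow_mul, mul_comm, pow_mul, hzq, inv_pow, inv_inv]
  set M : Matrix (Fin 3) (Fin 3) F := !![z * (1 + e), z * e * c ^ q, 0;
    z * e * c, z * (1 - e), 0; 0, 0, w] with hM
  have hdet : M.det = 1 := by
    rw [hM, Matrix.det_fin_three]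
    simp
    linear_combination hwz - z * z * e * e * w * hc'
  have hmem : (⟨M, hdet⟩ : Matrix.SpecialLinearGroup (Fin 3) F) ∈ Cfsg.SU 3 F q := by
    refine (RecogA.mem_SU_iff hq0 hadd).2 ?_
    change Mᵀ * M.map (· ^ q) = 1
    have h00 : (0 : F) ^ q = 0 := zero_pow hq0
    ext i j
    fin_cases i <;> fin_cases j <;>
      simp [hM, Matrix.mul_apply, Fin.sum_univ_three, mul_pow, hzq, heq, he1, he2, hcq, hwq, h00] <;>
      field_simp <;>
      first
        | ring1
        | linear_combination e * e * hc'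
        | linear_combination -(e * e) * hc'
        | linear_combination hwz
  have hpow : ∀ i : ℕ, M ^ i = !![z ^ i * (1 + i * e), z ^ i * i * e * c ^ q, 0;
      z ^ i * i * e * c, z ^ i * (1 - i * e), 0; 0, 0, w ^ i] := by
    intro i
    induction i with
    | zero => simp [Matrix.one_fin_three]
    | succ i ih =>
      rw [pow_succ, ih, hM]
      ext a b
      fin_cases a <;> fin_cases b <;>
        simp [Matrix.mul_apply, Fin.sum_univ_three, pow_succ] <;>
        first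
          | ring1
          | linear_combination (z ^ i * z * i * e * e) * hc'
          | linear_combination -(z ^ i * z * i * e * e) * hc'
  refine ⟨⟨⟨M, hdet⟩, hmem⟩, fun i ⟨s, hs⟩ => ?_⟩
  change M ^ i = s • 1 at hs
  rw [hpow] at hs
  have h01 := congrFun (congrFun hs 0) 1
  have h00 := congrFun (congrFun hs 0) 0
  have h22 := congrFun (congrFun hs 2) 2
  simp [he0, hz0, hcc] at h01 h00 h22
  have hc0 : c ≠ 0 := fun h => by simp [h] at hc'
  have hi : (i : F) = 0 := by tauto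
  rw [hi, zero_mul, add_zero, mul_one, ← h22] at h00
  have hpi : p ∣ i := (CharP.cast_eq_zero_iff F p i).1 hi
  have h3 : q + 1 ∣ 3 * i := hz.dvd_of_pow_eq_one _ (by
    calc z ^ (3 * i) = z ^ i * (z ^ 2) ^ i := by ring
      _ = w ^ i * (z ^ 2) ^ i := by rw [h00]
      _ = 1 := by rw [← mul_pow, hwz, one_pow])
  have hd := Nat.gcd_dvd_right 3 (q + 1)
  rw [Nat.mul_div_assoc p hd]
  refine Nat.Coprime.mul_dvd_of_dvd_of_dvd ?_ hpi (dvd_gcd_mul hd h3 (dvd_mul_right _ _))
  exact hp.out.coprime_iff_not_dvd.2 fun h => hpn (h.trans (Nat.div_dvd_of_dvd hd))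

theorem spectrum_psu_three (hp2 : p ≠ 2) (hF : Fintype.card F = q ^ 2) :
    Set.range (orderOf : Cfsg.PSU 3 F q → ℕ) =
      {s : ℕ | s ∣ q + 1} ∪ {s : ℕ | s ∣ p * (q + 1) / Nat.gcd 3 (q + 1)} ∪
        {s : ℕ | s ∣ (q ^ 2 - 1) / Nat.gcd 3 (q + 1)} ∪
          {s : ℕ | s ∣ (q ^ 2 - q + 1) / Nat.gcd 3 (q + 1)} := by
  classical
  obtain ⟨f, hf, hqf⟩ := exists_char_pow (p := p) hF
  haveI : CharP K p := charP_of_injective_algebraMap (algebraMap F K).injective p
  set d := Nat.gcd 3 (q + 1)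
  have hd3 : d ∣ 3 := Nat.gcd_dvd_left _ _
  have hd1 : d ∣ q + 1 := Nat.gcd_dvd_right _ _
  have hdpos : 0 < d := Nat.pos_of_dvd_of_pos hd3 (by norm_num)
  have hpq : p ∣ q := hqf ▸ dvd_pow_self p hf.ne'
  have hq2 : 2 ≤ q := hp.out.two_le.trans (Nat.le_of_dvd (by rw [hqf]; exact pow_pos hp.out.pos f) hpq)
  obtain ⟨hdA, hdB⟩ := gcd_dvd_facts q (by omega)
  have hpndvd : ∀ {n x : ℕ}, n = x → p ∣ x + 1 → ¬ p ∣ n := by
    intro n x h hx hn
    subst h
    exact hp.out.one_lt.ne' (Nat.dvd_one.1 ((Nat.dvd_add_right hn).1 hx))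
  -- attaining a bound
  have attain : ∀ (g : Cfsg.SU 3 F q) (N : ℕ), IsScalarMat (g.1.1 ^ N) →
      (∀ i, IsScalarMat (g.1.1 ^ i) → N ∣ i) → N ∈ Set.range (orderOf : Cfsg.PSU 3 F q → ℕ) :=
    fun g N h1 h2 => ⟨QuotientGroup.mk g, Nat.dvd_antisymm ((orderOf_mk_dvd hF g N).2 h1)
      (h2 _ ((orderOf_mk_dvd hF g _).1 dvd_rfl))⟩
  have lift : ∀ (g : Cfsg.SU 3 F q), ∃ e ∈ expos p q,
      orderOf (QuotientGroup.mk g : Cfsg.PSU 3 F q) ∣ e := fun g => by
    obtain ⟨k, hk, hs⟩ := exists_scalar_pow_mem hp2 hF g.2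
    exact ⟨k, hk, (orderOf_mk_dvd hF g k).2 hs⟩
  -- from prescribed eigenvalues: all maximal orders
  have attain' : ∀ (g : Cfsg.SU 3 F q) (N : ℕ), (∀ i, IsScalarMat (g.1.1 ^ i) → N ∣ i) →
      N ∈ Set.range (orderOf : Cfsg.PSU 3 F q → ℕ) := fun g N h2 =>
    Spectrum.mem_range_orderOf_of_dvd ⟨_, rfl⟩ (h2 _ ((orderOf_mk_dvd hF g _).1 dvd_rfl))
  have m1 : q + 1 ∈ Set.range (orderOf : Cfsg.PSU 3 F q → ℕ) := by
    obtain ⟨z, hz⟩ := exists_primitive_root' (F := F) p (n := q + 1) (by omega) (by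
      intro h; exact hp.out.one_lt.ne' (Nat.dvd_one.1 ((Nat.dvd_add_right hpq).1 h)))
    have hz0 : z ≠ 0 := hz.ne_zero (by omega)
    have hh : hinvq q z = z := by
      rw [hinvq]; exact inv_eq_of_mul_eq_one_right (by rw [← pow_succ, hz.pow_eq_one])
    have hh' : hinvq q z⁻¹ = z⁻¹ := by
      rw [hinvq, inv_pow]; exact congrArg (·⁻¹) hh
    obtain ⟨g, hg⟩ := exists_elem p hF (l1 := z) (l2 := 1) (l3 := z⁻¹) (by field_simp)
      (by rw [hh, hh', hinvq, one_pow, inv_one])
    refine attain' g _ fun i ⟨e, he⟩ => hz.dvd_of_pow_eq_one i ?_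
    rw [pow_root_eq he (hg z (Or.inl rfl)), ← pow_root_eq he (hg 1 (Or.inr (Or.inl rfl))), one_pow]
  have hsemi : ∀ (n : ℕ) (b c : K), IsPrimitiveRoot b n → n ≠ 0 → d ∣ n →
      b * hinvq q b * c = 1 →
      ({hinvq q b, hinvq q (hinvq q b), hinvq q c} : Multiset K) = {b, hinvq q b, c} →
      n / d ∈ Set.range (orderOf : Cfsg.PSU 3 F q → ℕ) := by
    intro n b c hb hn hdn hprod hperm
    obtain ⟨g, hg⟩ := exists_elem p hF hprod hperm
    refine attain' g _ fun i ⟨e, he⟩ => ?_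
    have e1 := pow_root_eq he (hg b (Or.inl rfl))
    have e2 := pow_root_eq he (hg _ (Or.inr (Or.inl rfl)))
    have e3 := pow_root_eq he (hg c (Or.inr (Or.inr rfl)))
    have hprod' := congrArg (· ^ i) hprod
    simp only [mul_pow, one_pow, e2, e3, ← e1] at hprod'
    refine dvd_gcd_mul hdn (hb.dvd_of_pow_eq_one _ ?_) (hb.dvd_of_pow_eq_one _ ?_)
    · rw [← hprod']; ring
    · have : (hinvq q b) ^ i * b ^ (q * i) = 1 := by
        rw [pow_mul, ← mul_pow, hinvq, inv_mul_cancel₀ (pow_ne_zero _ (hb.ne_zero hn)), one_pow]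
      rw [e2, ← e1] at this
      rw [← this]; ring
  have m2 : p * (q + 1) / d ∈ Set.range (orderOf : Cfsg.PSU 3 F q → ℕ) := by
    obtain ⟨g, hg⟩ := exists_mixed p hp2 hF
    exact attain' g _ hg
  have m3 : (q ^ 2 - 1) / d ∈ Set.range (orderOf : Cfsg.PSU 3 F q → ℕ) := by
    have hn : q ^ 2 - 1 ≠ 0 := by
      have : 4 ≤ q ^ 2 := by nlinarith
      omega
    obtain ⟨b, hb⟩ := exists_primitive_root' (F := F) p hn
      (hpndvd rfl (by
        rw [Nat.sub_add_cancel (Nat.one_le_pow _ _ (by omega))]; exact dvd_pow hpq two_ne_zero))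
    have hb0 := hb.ne_zero hn
    have hbq : b ^ (q * q) = b := by
      rw [← sq, show q ^ 2 = (q ^ 2 - 1) + 1 by have := Nat.one_le_pow 2 q (by omega); omega,
        pow_succ, hb.pow_eq_one, one_mul]
    set c := b ^ q * b⁻¹ with hc
    have hcc : hinvq q c = c := by
      rw [hinvq, hc, mul_pow, ← pow_mul, hbq, inv_pow, mul_inv, inv_inv, mul_comm]
    refine hsemi _ b c hb hn hdA (by rw [hinvq, hc]; field_simp) ?_
    rw [hinvq_hinvq, hbq, hcc]
    exact Multiset.cons_swap _ _ _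
  have m4 : (q ^ 2 - q + 1) / d ∈ Set.range (orderOf : Cfsg.PSU 3 F q → ℕ) := by
    have hq3 : q ≤ q ^ 2 := Nat.le_self_pow two_ne_zero q
    obtain ⟨b, hb⟩ := exists_primitive_root' (F := F) p (n := q ^ 2 - q + 1) (Nat.succ_ne_zero _)
      (fun h => hp.out.one_lt.ne' (Nat.dvd_one.1 ((Nat.dvd_add_right
        (Nat.dvd_sub (dvd_pow hpq two_ne_zero) hpq)).1 h)))
    have hb0 := hb.ne_zero (Nat.succ_ne_zero _)
    have h1 : b ^ (q * q) * b = b ^ q := by
      rw [← pow_succ, show q * q + 1 = q + (q ^ 2 - q + 1) by rw [← sq]; omega, pow_add,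
        hb.pow_eq_one, mul_one]
    have h2 : hinvq q (hinvq q (hinvq q b)) = b := by
      rw [hinvq_hinvq, hinvq, inv_pow, ← pow_mul]
      apply inv_eq_of_mul_eq_one_right
      rw [← pow_succ, show q * (q * q) + 1 = (q ^ 2 - q + 1) * (q + 1) by
        zify [hq3]; ring, pow_mul, hb.pow_eq_one, one_pow]
    refine hsemi _ b (hinvq q (hinvq q b)) hb (Nat.succ_ne_zero _) hdB ?_ ?_
    · rw [hinvq_hinvq, hinvq]
      field_simp
      linear_combination h1
    · rw [h2]
      simp only [Multiset.insert_eq_cons, ← Multiset.singleton_add]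
      abel
  ext s
  constructor
  · rintro ⟨x, rfl⟩
    obtain ⟨g, rfl⟩ := QuotientGroup.mk_surjective x
    obtain ⟨e, he, hdvd⟩ := lift g
    simp only [expos, List.mem_cons, List.not_mem_nil, or_false] at he
    rcases he with rfl | rfl | rfl | rfl
    · exact Or.inl (Or.inl (Or.inl hdvd))
    · exact Or.inl (Or.inl (Or.inr hdvd))
    · exact Or.inl (Or.inr hdvd)
    · exact Or.inr hdvd
  · rintro (((h | h) | h) | h)
    · exact Spectrum.mem_range_orderOf_of_dvd m1 h
    · exact Spectrum.mem_range_orderOf_of_dvd m2 h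
    · exact Spectrum.mem_range_orderOf_of_dvd m3 h
    · exact Spectrum.mem_range_orderOf_of_dvd m4 h

end Cfsg.Agent.SpecU3
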