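import Cfsg.Prelude.Def_Classical
import Cfsg.Agent.Classical.UGen
import Cfsg.Agent.RecogA.ThreeSpectrum

/-!
Powers of elements of `SU_3(q)`, `q` odd, that are scalar.
-/

namespace Cfsg.Agent.SpecU3

open Matrix Polynomial

variable {F : Type*} [Field F] [Fintype F] {p q : ℕ} [hp : Fact p.Prime] [CharP F p]

local notation "K" => AlgebraicClosure F

/-- the involution `x ↦ x^(-q)` of the roots -/
def hinvq {R : Type*} [Field R] (q : ℕ) (x : R) : R := (x ^ q)⁻¹

theorem hinvq_hinvq {R : Type*} [Field R] (x : R) : hinvq q (hinvq q x) = x ^ (q * q) := by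
  rw [hinvq, hinvq, inv_pow, inv_inv, ← pow_mul]

/-- the matrix is a scalar -/
def IsScalarMat (A : Matrix (Fin 3) (Fin 3) F) : Prop := ∃ e : F, A = e • 1

theorem exists_char_pow (hF : Fintype.card F = q ^ 2) : ∃ f : ℕ, 0 < f ∧ q = p ^ f := by
  obtain ⟨m, -, hm⟩ := FiniteField.card F p
  obtain ⟨j, hjm, hj⟩ : ∃ j ≤ (m : ℕ), q = p ^ j := by
    rw [← Nat.dvd_prime_pow hp.out, ← hm, hF]; exact dvd_pow_self q two_ne_zero
  refine ⟨j, Nat.pos_of_ne_zero ?_, hj⟩
  rintro rfl
  rw [hj, pow_zero, one_pow] at hF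
  exact (Fintype.one_lt_card (α := F)).ne' hF

/-- the eigenvalues are permuted by `x ↦ x^(-q)` -/
theorem root_hinvq (p : ℕ) [hp : Fact p.Prime] [CharP F p] (hF : Fintype.card F = q ^ 2) {g : Matrix.SpecialLinearGroup (Fin 3) F}
    (hg : g ∈ Cfsg.SU 3 F q) {l : K}
    (hl : (g.1.map (algebraMap F K)).charpoly.IsRoot l) :
    (g.1.map (algebraMap F K)).charpoly.IsRoot (hinvq q l) := by
  obtain ⟨f, hf, rfl⟩ := exists_char_pow (p := p) hF
  haveI : CharP K p := charP_of_injective_algebraMap (algebraMap F K).injective p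
  have hmem := (RecogA.mem_SU_iff (pow_ne_zero f hp.out.ne_zero)
    (fun a b => add_pow_char_pow a b p f)).1 hg
  set A := g.1.map (algebraMap F K) with hA
  let σ : K →+* K := iterateFrobenius K p f
  have hσ : ∀ x : K, σ x = x ^ p ^ f := fun x => iterateFrobenius_def p f x
  have hinv : Aᵀ * A.map σ = 1 := by
    have h := congrArg (fun M : Matrix (Fin 3) (Fin 3) F => M.map (algebraMap F K)) hmem
    rw [Matrix.map_mul, Matrix.map_one _ (map_zero _) (map_one _), Matrix.transpose_map,
      Matrix.map_map] at h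
    rw [hA, Matrix.map_map]
    convert h using 3
    ext i j
    simp [hσ]
  rw [Polynomial.IsRoot, Matrix.eval_charpoly] at hl ⊢
  have hdetA : A.det = 1 := by
    have := RingHom.map_det (algebraMap F K) g.1
    rw [g.2, map_one] at this
    exact this.symm
  have h1 : (Matrix.scalar (Fin 3) (l ^ p ^ f) - A.map σ).det = 0 := by
    have := congrArg σ hl
    rw [map_zero, RingHom.map_det] at this
    rw [← this]
    congr 1
    ext i j
    rcases eq_or_ne i j with rfl | hij
    · simp [hσ, Matrix.scalar_apply, sub_pow_char_pow]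
    · simp [hσ, Matrix.scalar_apply, hij, sub_pow_char_pow, zero_pow (pow_ne_zero f hp.out.ne_zero)]
      rw [← hσ, ← hσ, map_neg]
  have hl0 : l ^ p ^ f ≠ 0 := by
    refine pow_ne_zero _ fun h0 => ?_
    subst h0
    rw [map_zero, zero_sub, Matrix.det_neg, hdetA, mul_one] at hl
    exact pow_ne_zero _ (neg_ne_zero.2 one_ne_zero) hl
  have h2 : (Aᵀ * (Matrix.scalar (Fin 3) (l ^ p ^ f) - A.map σ)).det = 0 := by
    rw [Matrix.det_mul, h1, mul_zero]
  rw [Matrix.mul_sub, hinv] at h2
  have h3 : Aᵀ * Matrix.scalar (Fin 3) (l ^ p ^ f) - 1 =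
      (-(l ^ p ^ f)) • (Matrix.scalar (Fin 3) (hinvq (p ^ f) l) - A)ᵀ := by
    rw [Matrix.transpose_sub, smul_sub, neg_smul, neg_smul, sub_neg_eq_add, sub_eq_neg_add]
    congr 1
    · congr 1
      ext i j
      rcases eq_or_ne i j with rfl | hij
      · simp [Matrix.scalar_apply, hinvq, hl0]
      · simp [Matrix.scalar_apply, hij, Ne.symm hij]
    · rw [Matrix.scalar_apply, ← Matrix.smul_one_eq_diagonal, Matrix.mul_smul, Matrix.mul_one]
  rw [h3, Matrix.det_smul, Matrix.det_transpose] at h2
  exact (mul_eq_zero.1 h2).resolve_left (pow_ne_zero _ (neg_ne_zero.2 hl0))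

/-- a multiple of the characteristic polynomial kills the matrix -/
theorem scalar_of_dvd {g : Matrix.SpecialLinearGroup (Fin 3) F} {k : ℕ} {e : K}
    (h : (g.1.map (algebraMap F K)).charpoly ∣ X ^ k - C e) : IsScalarMat (g.1 ^ k) := by
  obtain ⟨r, hr⟩ := h
  have h1 := congrArg (Polynomial.aeval (g.1.map (algebraMap F K))) hr
  rw [map_mul, Matrix.aeval_self_charpoly, zero_mul, map_sub, map_pow, aeval_X, aeval_C,
    sub_eq_zero] at h1
  have h2 : ∀ i j, algebraMap F K ((g.1 ^ k) i j) = if i = j then e else 0 := by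
    intro i j
    have := congrFun (congrFun h1 i) j
    rw [← Matrix.map_pow, Matrix.algebraMap_matrix_apply] at this
    exact this
  refine ⟨(g.1 ^ k) 0 0, ?_⟩
  ext i j
  refine (algebraMap F K).injective ?_
  rw [h2]
  rcases eq_or_ne i j with rfl | hij
  · rw [if_pos rfl, Matrix.smul_apply, Matrix.one_apply_eq, smul_eq_mul, mul_one, h2, if_pos rfl]
  · rw [if_neg hij, Matrix.smul_apply, Matrix.one_apply_ne hij, smul_eq_mul, mul_zero, map_zero]

theorem dvd_of_distinct {a b c e : K} {k : ℕ} (hab : a ≠ b) (hac : a ≠ c) (hbc : b ≠ c)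
    (ha : a ^ k = e) (hb : b ^ k = e) (hc : c ^ k = e) :
    (X - C a) * ((X - C b) * (X - C c)) ∣ X ^ k - C e := by
  have hd : ∀ {x}, x ^ k = e → X - C x ∣ X ^ k - C e := fun {x} hx => by
    rw [dvd_iff_isRoot]; simp [Polynomial.IsRoot, hx]
  have hc' : ∀ {x y : K}, x ≠ y → IsCoprime (X - C x) (X - C y) := fun {x y} h =>
    isCoprime_X_sub_C_of_isUnit_sub (isUnit_iff_ne_zero.2 (sub_ne_zero.2 h))
  exact ((hc' hab).mul_right (hc' hac)).mul_dvd (hd ha) ((hc' hbc).mul_dvd (hd hb) (hd hc))

/-- the possible exponents -/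
def expos (p q : ℕ) : List ℕ :=
  [q + 1, p * (q + 1) / Nat.gcd 3 (q + 1), (q ^ 2 - 1) / Nat.gcd 3 (q + 1),
    (q ^ 2 - q + 1) / Nat.gcd 3 (q + 1)]

theorem gcd_dvd_facts (q : ℕ) (hq : 1 ≤ q) :
    Nat.gcd 3 (q + 1) ∣ q ^ 2 - 1 ∧ Nat.gcd 3 (q + 1) ∣ q ^ 2 - q + 1 := by
  set d := Nat.gcd 3 (q + 1)
  have h3 : (d : ℤ) ∣ 3 := Int.natCast_dvd_natCast.2 (Nat.gcd_dvd_left _ _)
  have h1 : (d : ℤ) ∣ (q : ℤ) + 1 := by exact_mod_cast Nat.gcd_dvd_right 3 (q + 1)
  have hq2 : 1 ≤ q ^ 2 := Nat.one_le_pow _ _ (by omega)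
  have hq3 : q ≤ q ^ 2 := Nat.le_self_pow two_ne_zero q
  constructor <;> rw [← Int.natCast_dvd_natCast]
  · rw [Nat.cast_sub hq2]
    push_cast
    rw [show (q : ℤ) ^ 2 - 1 = ((q : ℤ) + 1) * (q - 1) by ring]
    exact h1.mul_right _
  · push_cast [Nat.cast_sub hq3]
    rw [show (q : ℤ) ^ 2 - q + 1 = ((q : ℤ) + 1) * (q - 2) + 3 by ring]
    exact dvd_add (h1.mul_right _) h3

/-- every element has a scalar power with exponent in the list -/
theorem exists_scalar_pow_mem (hp2 : p ≠ 2) (hF : Fintype.card F = q ^ 2)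
    {g : Matrix.SpecialLinearGroup (Fin 3) F} (hg : g ∈ Cfsg.SU 3 F q) :
    ∃ k ∈ expos p q, IsScalarMat (g.1 ^ k) := by
  classical
  obtain ⟨f, hf, hqf⟩ := exists_char_pow (p := p) hF
  haveI : CharP K p := charP_of_injective_algebraMap (algebraMap F K).injective p
  set d := Nat.gcd 3 (q + 1)
  have hd3 : d ∣ 3 := Nat.gcd_dvd_left _ _
  have hd1 : d ∣ q + 1 := Nat.gcd_dvd_right _ _
  have hdpos : 0 < d := Nat.pos_of_dvd_of_pos hd3 (by norm_num)
  have hq1 : 1 ≤ q := by rw [hqf]; exact Nat.one_le_pow _ _ hp.out.pos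
  obtain ⟨hdA, hdB⟩ := gcd_dvd_facts q hq1
  set A := g.1.map (algebraMap F K) with hA
  set P := A.charpoly with hP
  have hsplit : P.Splits := IsAlgClosed.splits P
  have hcard : P.roots.card = 3 := by
    rw [← hsplit.natDegree_eq_card_roots, hP, Matrix.charpoly_natDegree_eq_dim, Fintype.card_fin]
  obtain ⟨l1, l2, l3, hroots⟩ := Multiset.card_eq_three.1 hcard
  have hmonic : P.Monic := Matrix.charpoly_monic A
  have hfac : P = (X - C l1) * ((X - C l2) * (X - C l3)) := by
    conv_lhs => rw [hsplit.eq_prod_roots_of_monic hmonic, hroots]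
    simp
  have hprod : l1 * l2 * l3 = 1 := by
    have hdetA : A.det = 1 := by
      have := RingHom.map_det (algebraMap F K) g.1
      rw [g.2, map_one] at this
      exact this.symm
    have := Matrix.det_eq_sign_charpoly_coeff A
    rw [← hP, hfac, hdetA, Fintype.card_fin] at this
    simp [Polynomial.coeff_zero_eq_eval_zero] at this
    rw [this]; ring
  have hne0 : l1 ≠ 0 ∧ l2 ≠ 0 ∧ l3 ≠ 0 := by
    refine ⟨?_, ?_, ?_⟩ <;> rintro rfl <;> simp at hprod
  have hclosed : ∀ x, (x = l1 ∨ x = l2 ∨ x = l3) →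
      (hinvq q x = l1 ∨ hinvq q x = l2 ∨ hinvq q x = l3) := by
    intro x hx
    have hroot : P.IsRoot x := by
      rw [hfac]; simp only [Polynomial.IsRoot, eval_mul, eval_sub, eval_X, eval_C]
      rcases hx with rfl | rfl | rfl <;> ring
    have h := root_hinvq p hF hg hroot
    rw [← hA, ← hP, hfac] at h
    simpa [Polynomial.IsRoot, sub_eq_zero] using h
  have hinj : Function.Injective (hinvq q : K → K) := by
    intro x y h
    have h' : iterateFrobenius K p f x = iterateFrobenius K p f y := by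
      simpa [hinvq, hqf, iterateFrobenius_def] using h
    exact RingHom.injective _ h'
  have hfixed : ∀ {x : K}, x ≠ 0 → hinvq q x = x → x ^ (q + 1) = 1 := by
    intro x hx h
    have h1 := congrArg (· * x ^ q) h
    simp only [hinvq, inv_mul_cancel₀ (pow_ne_zero q hx)] at h1
    rw [pow_succ', ← h1]
  -- ordered triple with first root moved
  have hmove : ∀ a b c : K, P = (X - C a) * ((X - C b) * (X - C c)) → a * b * c = 1 →
      (∀ x, (x = a ∨ x = b ∨ x = c) → (hinvq q x = a ∨ hinvq q x = b ∨ hinvq q x = c)) →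
      hinvq q a = b → b ≠ a → ∃ k ∈ expos p q, IsScalarMat (g.1 ^ k) := by
    intro a b c hfac hprod hclosed hab hne
    have ha0 : a ≠ 0 := fun h => by subst h; simp at hprod
    have hb : b * a ^ q = 1 := by
      rw [← hab, hinvq, inv_mul_cancel₀ (pow_ne_zero _ ha0)]
    have hpowb : ∀ {k : ℕ}, a ^ (k * (q + 1)) = 1 → b ^ k = a ^ k := by
      intro k hk
      have h1 : b ^ k * a ^ (q * k) = 1 := by rw [pow_mul, ← mul_pow, hb, one_pow]
      calc b ^ k = b ^ k * a ^ (k * (q + 1)) := by rw [hk, mul_one]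
        _ = b ^ k * a ^ (q * k) * a ^ k := by ring
        _ = a ^ k := by rw [h1, one_mul]
    have hc : c = a ^ q * a⁻¹ := by
      field_simp
      linear_combination (a ^ q) * hprod - (a * c) * hb
    by_cases hba : hinvq q b = a
    · -- transposition
      have haq : a ^ (q * q) = a := by rw [← hinvq_hinvq, hab, hba]
      have hn : a ^ (q ^ 2 - 1) = 1 := by
        apply mul_right_cancel₀ ha0
        rw [← pow_succ, Nat.sub_add_cancel (Nat.one_le_pow _ _ hq1), one_mul, sq, haq]
      set k := (q ^ 2 - 1) / d with hkdef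
      have hk1 : a ^ (k * (q + 1)) = 1 := by
        obtain ⟨j, hj⟩ := hd1
        rw [hj, ← mul_assoc, Nat.div_mul_cancel hdA, pow_mul, hn, one_pow]
      have hk3 : a ^ (k * 3) = 1 := by
        obtain ⟨j, hj⟩ := hd3
        rw [hj, ← mul_assoc, Nat.div_mul_cancel hdA, pow_mul, hn, one_pow]
      have hck : c ^ k = a ^ k := by
        have h1 : c ^ k * a ^ (k * 3) = a ^ (k * (q + 1)) * a ^ k := by
          rw [hc, mul_pow, ← pow_mul, inv_pow]
          field_simp
          ring
        rwa [hk1, hk3, one_mul, mul_one] at h1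
      have hca : c ≠ a := by
        intro h
        -- a third root equal to the first forces `a^3 = 1`
        have h3 : a ^ q = a * a := by rw [hc] at h; field_simp at h; linear_combination h
        have h4 : a ^ 4 = a := by
          calc a ^ 4 = (a * a) * (a * a) := by ring
            _ = a ^ q * a ^ q := by rw [h3]
            _ = (a * a) ^ q := (mul_pow a a q).symm
            _ = (a ^ q) ^ q := by rw [h3]
            _ = a := by rw [← pow_mul, haq]
        refine hne (mul_right_cancel₀ (pow_ne_zero q ha0) ?_)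
        rw [hb, h3]
        apply mul_left_cancel₀ ha0
        linear_combination -h4
      have hcb : c ≠ b := by
        intro h
        have h3 : a ^ q * a ^ q = a := by
          rw [hc] at h; field_simp at h
          linear_combination (a ^ q) * h + a * hb
        have h4 : a * a = a ^ q := by
          calc a * a = (a ^ q) ^ q * (a ^ q) ^ q := by rw [← pow_mul, haq]
            _ = (a ^ q * a ^ q) ^ q := (mul_pow _ _ q).symm
            _ = a ^ q := by rw [h3]
        refine hne (mul_right_cancel₀ (pow_ne_zero q ha0) ?_)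
        rw [hb, ← h4]
        apply mul_left_cancel₀ ha0
        rw [← h4] at h3
        linear_combination -h3
      exact ⟨k, by simp [expos, hkdef, d], scalar_of_dvd (hfac ▸
        dvd_of_distinct hne.symm hca.symm hcb.symm rfl (hpowb hk1) hck)⟩
    · -- three-cycle
      have hbb : hinvq q b ≠ b := fun h => hne (hinj (h.trans hab.symm))
      have hbc : hinvq q b = c := ((hclosed b (Or.inr (Or.inl rfl))).resolve_left hba).resolve_left hbb
      have hca : c ≠ a := fun h => hba (hbc.trans h)
      have hcb : c ≠ b := fun h => hbb (hbc.trans h)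
      have hc3 : c = a ^ (q * q) := by rw [← hbc, ← hab, hinvq_hinvq]
      have hn : a ^ (q ^ 2 - q + 1) = 1 := by
        apply mul_left_cancel₀ (pow_ne_zero q ha0)
        rw [← pow_add, mul_one, show q + (q ^ 2 - q + 1) = q * q + 1 by
          have := Nat.le_self_pow two_ne_zero q; rw [← sq]; omega, pow_succ, ← hc3]
        linear_combination (a ^ q) * hprod - (a * c) * hb
      set k := (q ^ 2 - q + 1) / d with hkdef
      have hk1 : a ^ (k * (q + 1)) = 1 := by
        obtain ⟨j, hj⟩ := hd1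
        rw [hj, ← mul_assoc, Nat.div_mul_cancel hdB, pow_mul, hn, one_pow]
      have hck : c ^ k = a ^ k := by
        have hb' : c * b ^ q = 1 := by
          have hb0 : b ≠ 0 := fun h => by subst h; simp at hprod
          rw [← hbc, hinvq, inv_mul_cancel₀ (pow_ne_zero _ hb0)]
        have h1 : b ^ (k * (q + 1)) = 1 := by rw [pow_mul, hpowb hk1, ← pow_mul, hk1]
        calc c ^ k = c ^ k * b ^ (k * (q + 1)) := by rw [h1, mul_one]
          _ = (c * b ^ q) ^ k * b ^ k := by ring
          _ = a ^ k := by rw [hb', one_pow, one_mul, hpowb hk1]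
      exact ⟨k, by simp [expos, hkdef, d], scalar_of_dvd (hfac ▸
        dvd_of_distinct hne.symm hca.symm hcb.symm rfl (hpowb hk1) hck)⟩
  -- a double root
  have hdouble : ∀ a c : K, P = (X - C a) * ((X - C a) * (X - C c)) → a * a * c = 1 → a ≠ c →
      a ^ (q + 1) = 1 → ∃ k ∈ expos p q, IsScalarMat (g.1 ^ k) := by
    intro a c hfac hprod hne ha
    have ha0 : a ≠ 0 := fun h => by subst h; simp at hprod
    set k := (q + 1) / d with hkdef
    have hk3 : a ^ (k * 3) = 1 := by
      obtain ⟨j, hj⟩ := hd3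
      rw [hj, ← mul_assoc, Nat.div_mul_cancel hd1, pow_mul, ha, one_pow]
    have hck : c ^ k = a ^ k := by
      calc c ^ k = c ^ k * a ^ (k * 3) := by rw [hk3, mul_one]
        _ = (a * a * c) ^ k * a ^ k := by ring
        _ = a ^ k := by rw [hprod, one_pow, one_mul]
    have hd : ∀ {x}, x ^ k = a ^ k → X - C x ∣ X ^ k - C (a ^ k) := fun {x} hx => by
      rw [dvd_iff_isRoot]; simp [Polynomial.IsRoot, hx]
    have h2 : (X - C a) * (X - C c) ∣ X ^ k - C (a ^ k) :=
      (isCoprime_X_sub_C_of_isUnit_sub (isUnit_iff_ne_zero.2 (sub_ne_zero.2 hne))).mul_dvd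
        (hd rfl) (hd hck)
    refine ⟨p * k, ?_, scalar_of_dvd (e := (a ^ k) ^ p) ?_⟩
    · simp [expos, hkdef, Nat.mul_div_assoc p hd1, d]
    · have h3 : X ^ (p * k) - C ((a ^ k) ^ p) = (X ^ k - C (a ^ k)) ^ p := by
        rw [sub_pow_char, ← map_pow C, mul_comm p k, pow_mul]
      rw [h3, ← hA, ← hP, hfac]
      refine dvd_trans ?_ (pow_dvd_pow_of_dvd h2 p)
      rw [mul_pow, ← mul_assoc, ← sq]
      exact mul_dvd_mul (pow_dvd_pow _ hp.out.two_le) (dvd_pow_self _ hp.out.ne_zero)
  by_cases h1 : hinvq q l1 = l1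
  swap
  · rcases hclosed l1 (Or.inl rfl) with h | h | h
    · exact absurd h h1
    · exact hmove l1 l2 l3 hfac hprod hclosed h (fun e => h1 (h.trans e))
    · exact hmove l1 l3 l2 (by rw [hfac]; ring) (by linear_combination hprod)
        (fun x hx => by have := hclosed x (by tauto); tauto) h (fun e => h1 (h.trans e))
  by_cases h2 : hinvq q l2 = l2
  swap
  · rcases hclosed l2 (Or.inr (Or.inl rfl)) with h | h | h
    · exact hmove l2 l1 l3 (by rw [hfac]; ring) (by linear_combination hprod)
        (fun x hx => by have := hclosed x (by tauto); tauto) h (fun e => h2 (h.trans e))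
    · exact absurd h h2
    · exact hmove l2 l3 l1 (by rw [hfac]; ring) (by linear_combination hprod)
        (fun x hx => by have := hclosed x (by tauto); tauto) h (fun e => h2 (h.trans e))
  by_cases h3 : hinvq q l3 = l3
  swap
  · rcases hclosed l3 (Or.inr (Or.inr rfl)) with h | h | h
    · exact hmove l3 l1 l2 (by rw [hfac]; ring) (by linear_combination hprod)
        (fun x hx => by have := hclosed x (by tauto); tauto) h (fun e => h3 (h.trans e))
    · exact hmove l3 l2 l1 (by rw [hfac]; ring) (by linear_combination hprod)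
        (fun x hx => by have := hclosed x (by tauto); tauto) h (fun e => h3 (h.trans e))
    · exact absurd h h3
  have e1 := hfixed hne0.1 h1
  have e2 := hfixed hne0.2.1 h2
  have e3 := hfixed hne0.2.2 h3
  by_cases h12 : l1 = l2
  · subst h12
    by_cases h13 : l1 = l3
    · subst h13
      refine ⟨p * (q + 1) / d, by simp [expos, d], ?_⟩
      have hdiv : p ∣ p * (q + 1) / d := by rw [Nat.mul_div_assoc p hd1]; exact dvd_mul_right _ _
      obtain ⟨j, hj⟩ := hdiv
      rw [hj]
      refine scalar_of_dvd (e := (l1 ^ p) ^ j) ?_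
      rw [← hA, ← hP, hfac, pow_mul, map_pow]
      refine dvd_trans ?_ (sub_dvd_pow_sub_pow _ _ j)
      rw [map_pow, ← sub_pow_char, show (X - C l1) * ((X - C l1) * (X - C l1)) = (X - C l1) ^ 3 by ring]
      refine pow_dvd_pow _ ?_
      rcases hp.out.eq_two_or_odd with h | h
      · exact absurd h hp2
      · have := hp.out.two_le
        omega
    · exact hdouble l1 l3 hfac hprod h13 e1
  · by_cases h13 : l1 = l3
    · subst h13
      exact hdouble l1 l2 (by rw [hfac]; ring) (by linear_combination hprod) h12 e1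
    · by_cases h23 : l2 = l3
      · subst h23
        exact hdouble l2 l1 (by rw [hfac]; ring) (by linear_combination hprod) (Ne.symm h12) e2
      · exact ⟨q + 1, by simp [expos], scalar_of_dvd (hfac ▸ dvd_of_distinct h12 h13 h23 e1 e2 e3)⟩

end Cfsg.Agent.SpecU3
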